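import Groth.Prelude.Def_CohB1
import Groth.Prelude.Def_Neron
import Mathlib.AlgebraicGeometry.ProjectiveSpectrum.Proper

/-!
Properness of the structure map of projective space, and of `Neron.IsProjectiveOver` schemes.
-/

set_option linter.style.haveILetI false

universe u

open CategoryTheory AlgebraicGeometry Limits

namespace Groth.Agent.ProjProper.Basic

theorem bijective_algebraMap_zero (n : ℕ) (R : Type u) [CommRing R] :
    Function.Bijective (algebraMap R (CohB1.polyGrading n R 0)) := by
  constructor
  · intro a b h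
    exact MvPolynomial.C_injective _ R (congrArg Subtype.val h)
  · rintro ⟨p, hp⟩
    refine ⟨MvPolynomial.coeff 0 p, Subtype.ext ?_⟩
    exact (MvPolynomial.totalDegree_eq_zero_iff_eq_C.mp
      (MvPolynomial.IsHomogeneous.totalDegree_le hp |>.antisymm (Nat.zero_le _))).symm

theorem isProper_toSpec (n : ℕ) (R : Type u) [CommRing R] :
    IsProper (CohB1.ProjSpace.toSpec n R) := by
  let 𝒜 := CohB1.polyGrading n R
  haveI : IsScalarTower R (𝒜 0) (MvPolynomial (Fin (n + 1)) R) :=
    IsScalarTower.of_algebraMap_eq (R := R) (S := ↥(𝒜 0)) (A := MvPolynomial (Fin (n + 1)) R)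
      (by intro r; rfl)
  haveI : Algebra.FiniteType (𝒜 0) (MvPolynomial (Fin (n + 1)) R) :=
    .of_restrictScalars_finiteType R (𝒜 0) _
  haveI : IsProper (Proj.toSpecZero 𝒜) := inferInstance
  haveI : IsIso (CommRingCat.ofHom (algebraMap R (𝒜 0))) :=
    (ConcreteCategory.isIso_iff_bijective _).mpr (bijective_algebraMap_zero n R)
  haveI : IsIso (Spec.map (CommRingCat.ofHom (algebraMap R (𝒜 0)))) := inferInstance
  change IsProper (Proj.toSpecZero 𝒜 ≫ Spec.map (CommRingCat.ofHom (algebraMap R (𝒜 0))))
  infer_instance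

theorem isProper_toBase (n : ℕ) (S : Scheme.{u}) : IsProper (CohB1.ProjSpaceOver.toBase n S) := by
  haveI := isProper_toSpec n (ULift.{u} ℤ)
  change IsProper (pullback.snd (CohB1.ProjSpace.toSpec n (ULift.{u} ℤ)) (specULiftZIsTerminal.from S))
  infer_instance

theorem isProper_of_isProjectiveOver (R : Type u) [CommRing R]
    (X : Over (Spec (CommRingCat.of R))) (h : Neron.IsProjectiveOver R X) : IsProper X.hom := by
  obtain ⟨n, i, hi, he⟩ := h
  rw [← he]
  haveI := isProper_toBase n (Spec (CommRingCat.of R))
  infer_instance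

end Groth.Agent.ProjProper.Basic
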